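import Mathlib

/-!
Uniqueness of an abelian subgroup of order `64` in a group of order `512` from fixed-point counts.
-/

set_option autoImplicit false

namespace Cfsg.Agent.Lib.H59.M24Syl

open scoped commutatorElement

theorem eq_of_abelian {Q : Type*} [Group Q] [Finite Q] (hQ : Nat.card Q = 512) (A₀ : Subgroup Q)
    [A₀.Normal] (hA₀ : Nat.card ↥A₀ = 64)
    (h1 : ∀ x ∉ A₀, Nat.card ↥(A₀ ⊓ Subgroup.centralizer ({x} : Set Q)) < 32)
    (h2 : ∀ x y : Q, x ∉ A₀ → y ∉ A₀ → x⁻¹ * y ∉ A₀ →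
      Nat.card ↥(A₀ ⊓ Subgroup.centralizer ({x, y} : Set Q)) < 16)
    (h3 : ∃ x y : Q, (x * y)⁻¹ * (y * x) ∉ A₀)
    (A : Subgroup Q) (hab : ∀ a ∈ A, ∀ b ∈ A, a * b = b * a) (hA : Nat.card ↥A = 64) : A = A₀ := by
  classical
  set π : ↥A →* Q ⧸ A₀ := (QuotientGroup.mk' A₀).comp A.subtype with hπ
  have hker : π.ker = A₀.subgroupOf A := by
    ext a
    rw [MonoidHom.mem_ker, hπ, Subgroup.mem_subgroupOf]
    exact QuotientGroup.eq_one_iff _
  have hcard : Nat.card ↥(A₀ ⊓ A) * Nat.card ↥π.range = 64 := by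
    have h := π.ker.card_mul_index
    rw [Subgroup.index_ker, hA, hker] at h
    rw [← h]
    congr 1
    rw [← Subgroup.inf_subgroupOf_right,
      Nat.card_congr (Subgroup.subgroupOfEquivOfLe inf_le_right).toEquiv]
  have hQ8 : Nat.card (Q ⧸ A₀) = 8 := by
    have h := Subgroup.card_eq_card_quotient_mul_card_subgroup A₀
    rw [hQ, hA₀] at h
    omega
  have hk : Nat.card ↥π.range ∣ 8 := hQ8 ▸ Subgroup.card_subgroup_dvd_card _
  have hcen : ∀ S : Set Q, S ⊆ A →
      Nat.card ↥(A₀ ⊓ A) ≤ Nat.card ↥(A₀ ⊓ Subgroup.centralizer S) := fun S hS =>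
    Subgroup.card_le_of_le (inf_le_inf_left A₀ fun a ha =>
      Subgroup.mem_centralizer_iff.2 fun s hs => hab s (hS hs) a ha)
  by_cases hle : A ≤ A₀
  · exact Subgroup.eq_of_le_of_card_ge hle (by rw [hA₀, hA])
  exfalso
  obtain ⟨x, hx, hx0⟩ := SetLike.not_le_iff_exists.1 hle
  have hx' := lt_of_le_of_lt (hcen {x} (Set.singleton_subset_iff.2 hx)) (h1 x hx0)
  by_cases hy : ∃ y ∈ A, y ∉ A₀ ∧ x⁻¹ * y ∉ A₀
  · obtain ⟨y, hy, hy0, hxy⟩ := hy
    have hy' := lt_of_le_of_lt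
      (hcen {x, y} (Set.insert_subset hx (Set.singleton_subset_iff.2 hy))) (h2 x y hx0 hy0 hxy)
    have htop : π.range = ⊤ := by
      refine Subgroup.eq_top_of_card_eq _ (le_antisymm (Nat.le_of_dvd Nat.card_pos ?_) ?_)
      · exact Subgroup.card_subgroup_dvd_card _
      · rw [hQ8]
        obtain ⟨m, hm⟩ := hk
        rcases m with _ | _ | m
        · simp at hm
        · omega
        · have h4 : Nat.card ↥π.range ≤ 4 := by
            by_contra hgt
            have h5 := Nat.mul_le_mul (show 5 ≤ Nat.card ↥π.range by omega)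
              (show 2 ≤ m + 1 + 1 by omega)
            omega
          have h6 := Nat.mul_le_mul (show Nat.card ↥(A₀ ⊓ A) ≤ 15 by omega) h4
          omega
    obtain ⟨u, v, huv⟩ := h3
    obtain ⟨a, ha⟩ := MonoidHom.range_eq_top.1 htop (u : Q ⧸ A₀)
    obtain ⟨b, hb⟩ := MonoidHom.range_eq_top.1 htop (v : Q ⧸ A₀)
    apply huv
    rw [← QuotientGroup.eq_one_iff, QuotientGroup.mk_mul, QuotientGroup.mk_inv,
      QuotientGroup.mk_mul, QuotientGroup.mk_mul, inv_mul_eq_one, ← ha, ← hb, ← map_mul, ← map_mul]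
    exact congrArg π (Subtype.ext (hab _ a.2 _ b.2))
  · push Not at hy
    have hrange : Nat.card ↥π.range ≤ 2 := by
      have hsub : (π.range : Set (Q ⧸ A₀)) ⊆ {1, (x : Q ⧸ A₀)} := by
        rintro _ ⟨a, rfl⟩
        by_cases ha : (a : Q) ∈ A₀
        · exact Or.inl ((QuotientGroup.eq_one_iff (a : Q)).2 ha)
        · exact Or.inr (QuotientGroup.eq.2 (hy a a.2 ha)).symm
      refine (Nat.card_mono (Set.toFinite _) hsub).trans ?_
      rw [Nat.card_coe_set_eq]
      exact (Set.ncard_insert_le _ _).trans (by rw [Set.ncard_singleton])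
    have h6 := Nat.mul_le_mul (show Nat.card ↥(A₀ ⊓ A) ≤ 31 by omega) hrange
    omega

end Cfsg.Agent.Lib.H59.M24Syl
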