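import Cfsg.Agent.Lib.H59.M24Syl.Pc
import Cfsg.Agent.Lib.H59.M24Syl.Data
import Cfsg.Agent.Lib.Compute.Mathieu.Groups

/-!
Kernel computations with a Sylow `2`-subgroup of `M24`.
-/

set_option autoImplicit false

namespace Cfsg.Agent.Lib.H59.M24Syl

open Cfsg.Agent.Lib.Compute

/-- Operations on codes of permutations of the 24 points. -/
noncomputable abbrev O24 : Ops := permOps 8 24

/-- `a` and `b` commute up to the central involution. -/
noncomputable def cmz (a b : ℕ) : Bool :=
  forceNat (O24.mul b a) fun u => forceNat (O24.mul a b) fun v =>
    Nat.beq v u || Nat.beq v (O24.mul Data.zCode u)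

/-- The elements. -/
noncomputable def elemsP : List ℕ := pcElems O24.one Data.steps

/-- The elements of the large abelian subgroup. -/
noncomputable def elemsA : List ℕ := pcElems O24.one Data.stepsA

/-- The product named by a word in the lifted generators. -/
noncomputable def wordVal (w : List ℕ) : ℕ :=
  w.foldr (fun i r => forceNat r fun r' => O24.mul (genAt Data.lifts O24 i).1 r') O24.one

/-- Elements of a maximal subgroup, from the pattern of generators outside it. -/
noncomputable def glOf (b : List Bool) : List ℕ :=
  ((List.range 4).filter fun i => !b.getD i false).map (fun i => (genAt Data.lifts O24 i).1) ++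
  ((List.range 4).filter fun i => b.getD i false).flatMap (fun i =>
    ((List.range 4).filter fun j => b.getD j false).map fun j =>
      O24.mul (genAt Data.lifts O24 i).1 (genAt Data.lifts O24 j).1) ++
  ((List.range 4).filter fun j => b.getD j false).flatMap (fun j =>
    ((List.range 4).filter fun i => !b.getD i false).map fun i =>
      O24.mul (O24.mul (genAt Data.lifts O24 j).1 (genAt Data.lifts O24 i).1)
        (genAt Data.lifts O24 j).2)

/-- Code of the `i`-th representative. -/
noncomputable def repCode (i : ℕ) : ℕ := (genAt Data.reps O24 i).1

theorem pairs_ok :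
    (Data.steps.map Prod.fst).all (pairCheck 8 24 Mathieu.m24Chain) = true := by
  decide +kernel

theorem steps_ok : pcCheck O24 Data.steps = true := by decide +kernel

theorem stepsA_ok : pcCheck O24 Data.stepsA = true := by decide +kernel

theorem lifts_ok : (Data.lifts.all fun p => permCheck 8 24 p.1 p.2 &&
    Nat.beq (packP 8 (getP 8 p.1) 24) p.1 && Nat.beq (packP 8 (getP 8 p.2) 24) p.2 &&
    memN p.1 elemsP) = true := by
  decide +kernel

theorem reps_ok : (Data.reps.all fun p => permCheck 8 24 p.1 p.2 &&
    Nat.beq (packP 8 (getP 8 p.1) 24) p.1 && Nat.beq (packP 8 (getP 8 p.2) 24) p.2) = true := by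
  decide +kernel

theorem words_ok :
    beqList ((Data.steps.map Prod.fst).map Prod.fst) (Data.words.map wordVal) = true := by
  decide +kernel

theorem center_ok : beqList (elemsP.filter fun c =>
    (Data.steps.map Prod.fst).all fun g => Nat.beq (O24.mul g.1 c) (O24.mul c g.1))
    [O24.one, Data.zCode] = true := by
  decide +kernel

theorem cases_ok : (Data.cases.all fun e => beqList e.2 (glOf e.1) &&
    Nat.ble (e.2.foldl (fun acc g => acc.filter fun c => cmz g c) elemsP).length 16) = true := by
  decide +kernel

theorem cases_cover : ∀ b0 b1 b2 b3 : Bool, (b0 || b1 || b2 || b3) = true →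
    [b0, b1, b2, b3] ∈ Data.cases.map Prod.fst := by
  decide +kernel

theorem coset_ok :
    beqList elemsP ((List.range 8).flatMap fun i => elemsA.map (O24.mul (repCode i))) = true := by
  decide +kernel

theorem repZero_ok : Nat.beq (repCode 0) O24.one = true := by decide +kernel

theorem elemA_ok : ((Data.stepsA.map Prod.fst).all fun g => elemsA.all fun a => cmz g.1 a) = true := by
  decide +kernel

theorem squareA_ok :
    (elemsA.all fun a => memN (O24.mul a a) [O24.one, Data.zCode]) = true := by
  decide +kernel

theorem normalA_ok : ((List.range 8).all fun i => (Data.stepsA.map Prod.fst).all fun g =>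
    memN (O24.mul (O24.mul (repCode i) g.1) (genAt Data.reps O24 i).2) elemsA) = true := by
  decide +kernel

theorem fixed_ok : ((List.range 8).all fun i => (List.range 8).all fun j =>
    Nat.beq i 0 || Nat.beq j 0 ||
    (let l := elemsA.filter fun a => cmz (repCode i) a && cmz (repCode j) a
     if Nat.beq i j then Nat.ble l.length 32 else Nat.ble l.length 16)) = true := by
  decide +kernel

theorem nonabelian_ok : memN
    (O24.mul (O24.mul (genAt Data.reps O24 4).2 (genAt Data.reps O24 1).2)
      (O24.mul (repCode 4) (repCode 1))) elemsA = false := by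
  decide +kernel

end Cfsg.Agent.Lib.H59.M24Syl
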