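import Mathlib
import Cfsg.Agent.Lib.Compute.Chain

/-!
Element lists of finite `2`-groups built from a polycyclic sequence, checked by evaluation.
-/

set_option autoImplicit false

namespace Cfsg.Agent.Lib.H59.M24Syl

open Cfsg.Agent.Lib.Compute

/-- Occurrence of a code in a list. -/
def memN (c : ℕ) (l : List ℕ) : Bool := l.any (Nat.beq c)

theorem memN_iff {c : ℕ} {l : List ℕ} : memN c l = true ↔ c ∈ l := by
  simp [memN]

/-- Equality of lists of codes. -/
def beqList : List ℕ → List ℕ → Bool
  | [], [] => true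
  | a :: as, b :: bs => Nat.beq a b && beqList as bs
  | _, _ => false

theorem eq_of_beqList : ∀ {l l' : List ℕ}, beqList l l' = true → l = l'
  | [], [], _ => rfl
  | [], _ :: _, h => by simp [beqList] at h
  | _ :: _, [], h => by simp [beqList] at h
  | a :: as, b :: bs, h => by
    simp only [beqList, Bool.and_eq_true] at h
    rw [Nat.eq_of_beq_eq_true h.1, eq_of_beqList h.2]

/-- The list attached to a sequence of steps `((code, inverse code), new half)`, last step first. -/
def pcElems (one : ℕ) : List ((ℕ × ℕ) × List ℕ) → List ℕ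
  | [] => [one]
  | x :: xs => pcElems one xs ++ x.2

/-- Every step adjoins a new element normalising, with square inside, and the new half is right. -/
noncomputable def pcCheck (O : Ops) : List ((ℕ × ℕ) × List ℕ) → Bool
  | [] => true
  | x :: xs =>
    pcCheck O xs &&
    !memN x.1.1 (pcElems O.one xs) &&
    memN (O.mul x.1.1 x.1.1) (pcElems O.one xs) &&
    ((xs.map Prod.fst).all fun h => memN (O.mul (O.mul x.1.1 h.1) x.1.2) (pcElems O.one xs)) &&
    beqList x.2 ((pcElems O.one xs).map (O.mul x.1.1))

variable {G : Type*} [Group G] {O : Ops} (C : Coding G O)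

/-- `L` lists the codes of the elements of `H`. -/
def Lists (H : Subgroup G) (L : List ℕ) : Prop := ∀ g : G, g ∈ H ↔ C.enc g ∈ L

/-- The group generated by the elements of the steps. -/
def pcGroup (xs : List ((ℕ × ℕ) × List ℕ)) : Subgroup G := genGroup C (xs.map Prod.fst)

theorem pc_spec : ∀ (xs : List ((ℕ × ℕ) × List ℕ)), GensOK C (xs.map Prod.fst) →
    pcCheck O xs = true →
    Lists C (pcGroup C xs) (pcElems O.one xs) ∧ Nat.card ↥(pcGroup C xs) = 2 ^ xs.length ∧
      ∀ c ∈ pcElems O.one xs, ∃ g ∈ pcGroup C xs, C.enc g = c := by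
  intro xs
  induction xs with
  | nil =>
    intro _ _
    have hb : pcGroup C ([] : List ((ℕ × ℕ) × List ℕ)) = ⊥ := by
      rw [pcGroup, genGroup, eq_bot_iff, Subgroup.closure_le]
      rintro g ⟨p, hp, -⟩
      simp at hp
    refine ⟨fun g => ?_, by rw [hb, Subgroup.card_bot]; rfl, fun c hc => ?_⟩
    · rw [hb, Subgroup.mem_bot]
      simp only [pcElems, List.mem_singleton, ← C.one_enc]
      exact ⟨fun h => h ▸ rfl, fun h => C.inj h⟩
    · rw [pcElems, List.mem_singleton] at hc
      exact ⟨1, one_mem _, C.one_enc.trans hc.symm⟩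
  | cons x xs ih =>
    intro hS hc
    simp only [pcCheck, Bool.and_eq_true, Bool.not_eq_true'] at hc
    obtain ⟨⟨⟨⟨hxs, hnew⟩, hsq⟩, hnorm⟩, hlist⟩ := hc
    have hS' : GensOK C (xs.map Prod.fst) := fun p hp => hS p (List.mem_cons_of_mem _ hp)
    obtain ⟨hL, hcard, hsurj⟩ := ih hS' hxs
    obtain ⟨g, -, hg1, hg2⟩ := hS x.1 List.mem_cons_self
    set H := pcGroup C xs with hH
    have hgH : g ∉ H := fun h => by
      have := memN_iff.2 ((hL g).1 h)
      rw [hg1, hnew] at this
      exact absurd this (by simp)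
    have hg2H : g * g ∈ H := (hL _).2 (by rw [← C.mul_enc, hg1]; exact memN_iff.1 hsq)
    have hconj : ∀ h ∈ H, g * h * g⁻¹ ∈ H := by
      intro h hh
      have hle : H ≤ H.comap (MulAut.conj g).toMonoidHom := by
        rw [hH, pcGroup, genGroup, Subgroup.closure_le]
        rintro k ⟨p, hp, hk⟩
        show g * k * g⁻¹ ∈ H
        refine (hL _).2 ?_
        rw [← C.mul_enc, ← C.mul_enc, hg1, hg2, hk]
        exact memN_iff.1 (List.all_eq_true.1 hnorm p hp)
      exact hle hh
    have hconj' : ∀ h ∈ H, g⁻¹ * h * g ∈ H := by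
      intro h hh
      have h1 := mul_mem (mul_mem (inv_mem hg2H) (hconj h hh)) hg2H
      have e : (g * g)⁻¹ * (g * h * g⁻¹) * (g * g) = g⁻¹ * h * g := by group
      exact e ▸ h1
    let K : Subgroup G :=
      { carrier := {k | k ∈ H ∨ g⁻¹ * k ∈ H}
        one_mem' := Or.inl (one_mem _)
        mul_mem' := fun {a b} ha hb => by
          rcases ha with ha | ha <;> rcases hb with hb | hb
          · exact Or.inl (mul_mem ha hb)
          · refine Or.inr ?_
            have e : g⁻¹ * a * g * (g⁻¹ * b) = g⁻¹ * (a * b) := by group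
            exact e ▸ mul_mem (hconj' a ha) hb
          · refine Or.inr ?_
            rw [← mul_assoc]
            exact mul_mem ha hb
          · refine Or.inl ?_
            have e : g * g * (g⁻¹ * (g⁻¹ * a) * g) * (g⁻¹ * b) = a * b := by group
            exact e ▸ mul_mem (mul_mem hg2H (hconj' _ ha)) hb
        inv_mem' := fun {a} ha => by
          rcases ha with ha | ha
          · exact Or.inl (inv_mem ha)
          · refine Or.inr ?_
            have e : g⁻¹ * (g⁻¹ * a)⁻¹ * g * (g * g)⁻¹ = g⁻¹ * a⁻¹ := by group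
            exact e ▸ mul_mem (hconj' _ (inv_mem ha)) (inv_mem hg2H) }
    have hK : pcGroup C (x :: xs) = K := by
      refine le_antisymm ?_ ?_
      · rw [pcGroup, genGroup, Subgroup.closure_le]
        rintro k ⟨p, hp, hk⟩
        rw [List.map_cons, List.mem_cons] at hp
        rcases hp with rfl | hp
        · exact Or.inr (by rw [C.inj (hk.trans hg1.symm), inv_mul_cancel]; exact one_mem _)
        · exact Or.inl (Subgroup.subset_closure ⟨p, hp, hk⟩)
      · have hle : H ≤ pcGroup C (x :: xs) := Subgroup.closure_mono fun k => by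
          rintro ⟨p, hp, hk⟩
          exact ⟨p, List.mem_cons_of_mem _ hp, hk⟩
        have hgm : g ∈ pcGroup C (x :: xs) :=
          Subgroup.subset_closure ⟨x.1, List.mem_cons_self, hg1⟩
        rintro k (hk | hk)
        · exact hle hk
        · rw [← mul_inv_cancel_left g k]
          exact mul_mem hgm (hle hk)
    have hhalf : x.2 = (pcElems O.one xs).map (O.mul x.1.1) := eq_of_beqList hlist
    refine ⟨fun k => ?_, ?_, ?_⟩
    · rw [hK]
      simp only [pcElems, List.mem_append, hhalf, List.mem_map]
      refine or_congr (hL k) ⟨fun hk => ⟨_, (hL _).1 hk, ?_⟩, ?_⟩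
      · rw [← hg1, C.mul_enc, mul_inv_cancel_left]
      · rintro ⟨c, hc, he⟩
        obtain ⟨h, hh, rfl⟩ := hsurj c hc
        rw [← hg1, C.mul_enc] at he
        rw [← C.inj he, inv_mul_cancel_left]
        exact hh
    · rw [hK]
      have hle : H ≤ K := fun h hh => Or.inl hh
      have hi : (H.subgroupOf K).index = 2 := by
        rw [Subgroup.index_eq_two_iff_exists_notMem_and']
        refine ⟨⟨g⁻¹, inv_mem (show g ∈ K from Or.inr (by rw [inv_mul_cancel]; exact one_mem _))⟩,
          fun h => hgH (inv_mem_iff.1 (Subgroup.mem_subgroupOf.1 h)), ?_⟩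
        rintro ⟨b, hb | hb⟩
        · exact Or.inr hb
        · exact Or.inl hb
      have h1 := (H.subgroupOf K).card_mul_index
      rw [Nat.card_congr (Subgroup.subgroupOfEquivOfLe hle).toEquiv, hcard, hi] at h1
      rw [← h1, List.length_cons, pow_succ]
    · intro c hc
      simp only [pcElems, List.mem_append, hhalf, List.mem_map] at hc
      rw [hK]
      rcases hc with hc | ⟨d, hd, rfl⟩
      · obtain ⟨k, hk, he⟩ := hsurj c hc
        exact ⟨k, Or.inl hk, he⟩
      · obtain ⟨k, hk, rfl⟩ := hsurj d hd
        exact ⟨g * k, Or.inr (by rwa [inv_mul_cancel_left]), by rw [← hg1, C.mul_enc]⟩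

theorem card_le_length {H : Subgroup G} {l : List ℕ} (h : ∀ g ∈ H, C.enc g ∈ l) :
    Nat.card ↥H ≤ l.length := by
  classical
  have hf : Function.Injective fun g : ↥H => (⟨C.enc g, List.mem_toFinset.2 (h g g.2)⟩ : ↥l.toFinset) :=
    fun a b hab => Subtype.ext (C.inj (congrArg Subtype.val hab))
  refine (Nat.card_le_card_of_injective _ hf).trans ?_
  rw [Nat.card_eq_fintype_card, Fintype.card_coe]
  exact l.toFinset_card_le

end Cfsg.Agent.Lib.H59.M24Syl
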